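import Groth.Agent.HypSmooth.Criterion
import Groth.Agent.LefPenLib.Coord
import Groth.Agent.H23.PnChart
import Mathlib.AlgebraicGeometry.Morphisms.Smooth
import Mathlib.RingTheory.Jacobson.Ring
import Mathlib.FieldTheory.IsAlgClosed.Basic
import Mathlib.RingTheory.MvPolynomial.EulerIdentity

/-!
# Smoothness of a projective hypersurface over an arbitrary field

The hypersurface `V(G) ⊆ P^r_k`, `G ≠ 0`, is smooth over `k` iff `G` and its partial derivatives have
no common nonzero zero in an algebraically closed extension of `k`.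
-/

set_option backward.isDefEq.respectTransparency false
set_option backward.isDefEq.respectTransparency.types false
set_option linter.unusedSectionVars false
set_option linter.style.haveILetI false

universe u v

open CategoryTheory AlgebraicGeometry MvPolynomial

namespace Groth.Agent.HypSmooth

open H23.PnChart (Idx dh fromChart)

noncomputable section

variable {r d : ℕ} {k : Type u} [Field k] (G : LefPen.Form r k d) (i : Fin (r + 1))

attribute [local instance] LefPenLib.wAlgebra

/-- The coordinates of a chart of the hypersurface. -/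
def chartMap : MvPolynomial (Idx.{0} r i) k →ₐ[k] Γ((LefPen.hypIdeal G).subscheme,
    LefPenLib.wOpen (LefPen.hypIdeal G).subschemeι i) :=
  aeval fun j => LefPenLib.pullPoly (LefPen.hypIdeal G).subschemeι i (X j.down.1)

theorem chartMap_dh (p : MvPolynomial (Fin (r + 1)) k) :
    chartMap G i (dh.{u, 0} r k i p) = LefPenLib.pullPoly (LefPen.hypIdeal G).subschemeι i p := by
  refine DFunLike.congr_fun (?_ : (chartMap G i).comp (aeval fun j => if h : j = i then 1 else
    X (ULift.up ⟨j, h⟩)) = LefPenLib.pullPoly _ i) p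
  refine MvPolynomial.algHom_ext fun l => ?_
  rw [AlgHom.comp_apply, aeval_X]
  by_cases h : l = i
  · subst h; rw [dif_pos rfl, map_one, LefPenLib.pullPoly_X_self]
  · rw [dif_neg h, chartMap, aeval_X]

theorem fromChart_dh (p : MvPolynomial (Fin (r + 1)) k) :
    fromChart.{u, 0} r k i (dh.{u, 0} r k i p) = ZetaLib.dehom r k i p := by
  refine DFunLike.congr_fun (?_ : (fromChart.{u, 0} r k i).comp (dh.{u, 0} r k i) = ZetaLib.dehom r k i) p
  refine MvPolynomial.ringHom_ext (fun c => ?_) (fun l => ?_)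
  · simp [fromChart, dh, ZetaLib.dehom]
  · by_cases hj : l = i
    · subst hj; simp [fromChart, dh, ZetaLib.dehom, H23.PnChart.coord_self]
    · simp [fromChart, dh, ZetaLib.dehom, hj]

theorem dh_surjective : Function.Surjective (dh.{u, 0} r k i) := by
  intro a
  obtain ⟨p, hp⟩ := ZetaLib.surjective_dehom r k i (fromChart.{u, 0} r k i a)
  exact ⟨p, H23.PnChart.fromChart_injective r k i ((fromChart_dh i p).trans hp)⟩

theorem chartMap_surjective : Function.Surjective (chartMap G i) := fun z => by
  obtain ⟨p, rfl⟩ := LefPenLib.pullPoly_surjective (LefPen.hypIdeal G).subschemeι i z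
  exact ⟨_, chartMap_dh G i p⟩

theorem ker_chartMap : RingHom.ker (chartMap G i).toRingHom = Ideal.span {dh.{u, 0} r k i G.1} := by
  let ψ : MvPolynomial (Idx.{0} r i) k →+* Γ(CohB1.ProjSpace r k, LefPen.chart r k i) :=
    (Proj.awayToSection (CohB1.polyGrading r k) (X i)).hom.comp (fromChart.{u, 0} r k i)
  have hψ : Function.Bijective ψ :=
    (ConcreteCategory.bijective_of_isIso (Proj.basicOpenIsoAway (CohB1.polyGrading r k) (X i)
      (LefPen.X_mem r k i) Nat.one_pos).hom).comp
      ⟨H23.PnChart.fromChart_injective r k i, H23.PnChart.fromChart_surjective r k i⟩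
  have hG : ψ (dh.{u, 0} r k i G.1) = LefPen.dehom G i := by
    rw [LefPenLib.dehom_eq]
    show (Proj.awayToSection (CohB1.polyGrading r k) (X i)).hom _ = _
    rw [← fromChart_dh i G.1]
  have hc : (chartMap G i).toRingHom =
      ((LefPen.hypIdeal G).subschemeι.app (LefPen.chart r k i)).hom.comp ψ := by
    refine RingHom.ext fun a => ?_
    obtain ⟨p, rfl⟩ := dh_surjective i a
    show chartMap G i (dh.{u, 0} r k i p) = (LefPen.hypIdeal G).subschemeι.app _
      ((Proj.awayToSection _ _).hom (fromChart.{u, 0} r k i (dh.{u, 0} r k i p)))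
    rw [chartMap_dh, fromChart_dh]
    rfl
  rw [hc, ← RingHom.comap_ker]
  show Ideal.comap ψ (RingHom.ker ((LefPen.hypIdeal G).subschemeι.app (LefPenLib.chartAff i).1).hom) = _
  rw [Scheme.IdealSheafData.ker_subschemeι_app, LefPenLib.hypIdeal_chart, ← hG,
    show Ideal.span {ψ (dh.{u, 0} r k i G.1)} = (Ideal.span {dh.{u, 0} r k i G.1}).map ψ by
      rw [Ideal.map_span, Set.image_singleton]]
  exact Ideal.comap_map_of_bijective ψ hψ

theorem iSup_wOpen : ⨆ i : Fin (r + 1),
    LefPenLib.wOpen (LefPen.hypIdeal G).subschemeι i = ⊤ := by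
  rw [← Scheme.Hom.preimage_iSup, LefPenLib.iSup_chart, Scheme.Hom.preimage_top]

theorem dh_ne_zero {G : LefPen.Form r k d} (hG : G.1 ≠ 0) : dh.{u, 0} r k i G.1 ≠ 0 := by
  intro h
  have h1 := congrArg (fromChart.{u, 0} r k i) h
  rw [fromChart_dh, map_zero] at h1
  have h2 := ZetaLib.val_dehom_mul r k i ((mem_homogeneousSubmodule d _).1 G.2)
  rw [h1, HomogeneousLocalization.val_zero, zero_mul] at h2
  exact hG ((IsLocalization.injective (Localization (Submonoid.powers (X i : MvPolynomial (Fin (r + 1)) k)))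
    (powers_le_nonZeroDivisors_of_noZeroDivisors (X_ne_zero i))) (h2.symm.trans (map_zero _).symm))

/-- Smoothness of a hypersurface on its charts. -/
theorem smooth_iff_singIdeal (hG : G.1 ≠ 0) :
    Smooth ((LefPen.hypIdeal G).subschemeι ≫ CohB1.ProjSpace.toSpec r k) ↔
      ∀ i, singIdeal (dh.{u, 0} r k i G.1) = ⊤ := by
  rw [HasRingHomProperty.iff_of_iSup_eq_top (P := @Smooth)
    (fun i => ⟨LefPenLib.wOpen (LefPen.hypIdeal G).subschemeι i, LefPenLib.isAffine_wOpen _ i⟩) (iSup_wOpen G)]
  refine forall_congr' fun i => ?_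
  rw [← smooth_iff _ (dh_ne_zero i hG)]
  let e : (MvPolynomial (Idx.{0} r i) k ⧸ Ideal.span {dh.{u, 0} r k i G.1}) ≃ₐ[k]
      Γ((LefPen.hypIdeal G).subscheme, LefPenLib.wOpen (LefPen.hypIdeal G).subschemeι i) :=
    (Ideal.quotientEquivAlgOfEq k (ker_chartMap G i).symm).trans
      (Ideal.quotientKerAlgEquivOfSurjective (chartMap_surjective G i))
  have hb : (Scheme.ΓSpecIso (CommRingCat.of k)).inv.hom.Smooth :=
    RingHom.Smooth.of_bijective (ConcreteCategory.bijective_of_isIso (Scheme.ΓSpecIso (CommRingCat.of k)).inv)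
  have hb' : (Scheme.ΓSpecIso (CommRingCat.of k)).hom.hom.Smooth :=
    RingHom.Smooth.of_bijective (ConcreteCategory.bijective_of_isIso (Scheme.ΓSpecIso (CommRingCat.of k)).hom)
  constructor
  · intro h
    have h1 : Algebra.Smooth k Γ((LefPen.hypIdeal G).subscheme,
        LefPenLib.wOpen (LefPen.hypIdeal G).subschemeι i) :=
      RingHom.smooth_algebraMap.1 (RingHom.Smooth.stableUnderComposition _ _ hb h)
    exact Algebra.Smooth.of_equiv e.symm
  · intro h
    have h1 := RingHom.smooth_algebraMap.2 (Algebra.Smooth.of_equiv e)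
    have h2 := RingHom.Smooth.stableUnderComposition _ _ hb' h1
    convert h2
    refine RingHom.ext fun c => ?_
    show _ = ((LefPen.hypIdeal G).subschemeι ≫ CohB1.ProjSpace.toSpec r k).appLE ⊤ _ _
      ((Scheme.ΓSpecIso (CommRingCat.of k)).inv ((Scheme.ΓSpecIso (CommRingCat.of k)).hom c))
    rw [Iso.hom_inv_id_apply]

theorem aeval_dh {K : Type v} [CommRing K] [Algebra k K] (w : Idx.{0} r i → K) (p : MvPolynomial (Fin (r + 1)) k) :
    aeval w (dh.{u, 0} r k i p) = aeval (fun l => if h : l = i then 1 else w ⟨⟨l, h⟩⟩) p := by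
  refine DFunLike.congr_fun (?_ : (aeval w).comp (aeval fun j => if h : j = i then 1 else
    X (ULift.up ⟨j, h⟩)) = aeval _) p
  refine MvPolynomial.algHom_ext fun l => ?_
  rw [AlgHom.comp_apply, aeval_X, aeval_X]
  by_cases h : l = i
  · rw [dif_pos h, dif_pos h, map_one]
  · rw [dif_neg h, dif_neg h, aeval_X]

theorem pderiv_dh (j : Idx.{0} r i) (p : MvPolynomial (Fin (r + 1)) k) :
    pderiv j (dh.{u, 0} r k i p) = dh.{u, 0} r k i (pderiv j.down.1 p) := by
  classical
  induction p using MvPolynomial.induction_on with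
  | C c => simp [dh]
  | add p q hp hq => simp [hp, hq]
  | mul_X p l hp =>
    rw [map_mul, pderiv_mul, hp, pderiv_mul, map_add, map_mul, map_mul]
    congr 2
    rw [pderiv_X, show dh.{u, 0} r k i (X l) = if h : l = i then 1 else X (ULift.up ⟨l, h⟩) by simp [dh]]
    by_cases h : l = i
    · rw [dif_pos h, pderiv_one, Pi.single_eq_of_ne (fun e => j.down.2 (e.symm.trans h)), map_zero]
    · rw [dif_neg h, pderiv_X]
      by_cases h' : l = j.down.1
      · subst h'; rw [show (ULift.up ⟨j.down.1, h⟩ : Idx.{0} r i) = j from rfl,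
          Pi.single_eq_same, Pi.single_eq_same, map_one]
      · rw [Pi.single_eq_of_ne (fun e => h' (congrArg (fun x => x.down.1) e)),
          Pi.single_eq_of_ne h', map_zero]

theorem aeval_smul_of_isHomogeneous {K : Type v} [CommRing K] [Algebra k K] {n : ℕ}
    {p : MvPolynomial (Fin (r + 1)) k} (hp : p.IsHomogeneous n) (c : K) (v : Fin (r + 1) → K) :
    aeval (fun l => c * v l) p = c ^ n * aeval v p := by
  rw [aeval_def, aeval_def, eval₂_eq, eval₂_eq, Finset.mul_sum]
  refine Finset.sum_congr rfl fun s hs => ?_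
  have hdeg : ∑ l ∈ s.support, s l = n := by
    rw [← Finsupp.degree_apply, Finsupp.degree_eq_weight_one]
    exact hp (mem_support_iff.1 hs)
  rw [Finset.prod_congr rfl fun l _ => mul_pow c (v l) (s l), Finset.prod_mul_distrib,
    Finset.prod_pow_eq_pow_sum, hdeg]
  ring

theorem singIdeal_eq_top_iff (K : Type v) [Field K] [Algebra k K] [IsAlgClosed K] :
    (∀ i, singIdeal (dh.{u, 0} r k i G.1) = ⊤) ↔ ∀ v : Fin (r + 1) → K, v ≠ 0 → aeval v G.1 = 0 →
      ∃ l, aeval v (pderiv l G.1) ≠ 0 := by
  classical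
  have hGh : G.1.IsHomogeneous d := (mem_homogeneousSubmodule d _).1 G.2
  constructor
  · intro h v hv h0
    by_contra! hall
    obtain ⟨i, hi⟩ := Function.ne_iff.1 hv
    change v i ≠ 0 at hi
    let w : Idx.{0} r i → K := fun j => (v i)⁻¹ * v j.down.1
    have hw : (fun l => if h : l = i then 1 else w ⟨⟨l, h⟩⟩) = fun l => (v i)⁻¹ * v l := by
      funext l
      by_cases h : l = i
      · subst h; rw [dif_pos rfl, inv_mul_cancel₀ hi]
      · rw [dif_neg h]
    have hle : singIdeal (dh.{u, 0} r k i G.1) ≤ RingHom.ker (aeval w).toRingHom := by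
      refine sup_le (Ideal.span_le.2 ?_) (Ideal.span_le.2 ?_)
      · rw [Set.singleton_subset_iff]
        show aeval w _ = 0
        rw [aeval_dh, hw, aeval_smul_of_isHomogeneous hGh, h0, mul_zero]
      · rintro _ ⟨j, rfl⟩
        show aeval w (pderiv j _) = 0
        rw [pderiv_dh, aeval_dh, hw, aeval_smul_of_isHomogeneous hGh.pderiv, hall, mul_zero]
    rw [h i, top_le_iff] at hle
    exact RingHom.ker_ne_top _ hle
  · intro h i
    by_contra hne
    obtain ⟨m, hm, hle⟩ := Ideal.exists_le_maximal _ hne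
    letI := Ideal.Quotient.field m
    haveI : Module.Finite k (MvPolynomial (Idx.{0} r i) k ⧸ m) := finite_of_finite_type_of_isJacobsonRing k _
    haveI : Algebra.IsAlgebraic k (MvPolynomial (Idx.{0} r i) k ⧸ m) := Algebra.IsAlgebraic.of_finite k _
    let φ : MvPolynomial (Idx.{0} r i) k ⧸ m →ₐ[k] K := IsAlgClosed.lift
    let ev : MvPolynomial (Idx.{0} r i) k →ₐ[k] K := φ.comp (Ideal.Quotient.mkₐ k m)
    have hev : ∀ p, ev p = aeval (fun j => ev (X j)) p := fun p => by
      conv_lhs => rw [MvPolynomial.aeval_unique ev]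
      rfl
    have hz : ∀ p ∈ singIdeal (dh.{u, 0} r k i G.1), aeval (fun j => ev (X j)) p = 0 := fun p hp => by
      rw [← hev]
      show φ (Ideal.Quotient.mk m p) = 0
      rw [Ideal.Quotient.eq_zero_iff_mem.2 (hle hp), map_zero]
    let v : Fin (r + 1) → K := fun l => if h : l = i then 1 else ev (X ⟨⟨l, h⟩⟩)
    have hvi : v i = 1 := dif_pos rfl
    have h0 : aeval v G.1 = 0 := by
      rw [← aeval_dh i (fun j => ev (X j))]
      exact hz _ (Ideal.mem_sup_left (Ideal.mem_span_singleton_self _))
    obtain ⟨l, hl⟩ := h v (fun hv => one_ne_zero (hvi.symm.trans (congrFun hv i))) h0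
    have hj : ∀ l, l ≠ i → aeval v (pderiv l G.1) = 0 := fun l hli => by
      rw [← aeval_dh i (fun j => ev (X j)), ← pderiv_dh i ⟨⟨l, hli⟩⟩]
      exact hz _ (Ideal.mem_sup_right (Ideal.subset_span ⟨_, rfl⟩))
    refine hl ?_
    by_cases hli : l = i
    · subst hli
      have h2 := congrArg (aeval v) hGh.sum_X_mul_pderiv
      rw [map_sum, map_nsmul, h0, smul_zero, Finset.sum_eq_single l (fun l' _ hl' => by
        rw [map_mul, hj l' hl', mul_zero]) (fun h => absurd (Finset.mem_univ l) h), map_mul, aeval_X,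
        hvi, one_mul] at h2
      exact h2
    · exact hj l hli

/-- The Jacobian criterion for a projective hypersurface. -/
theorem smooth_hyp_iff (hG : G.1 ≠ 0) (K : Type v) [Field K] [Algebra k K] [IsAlgClosed K] :
    Smooth ((LefPen.hypIdeal G).subschemeι ≫ CohB1.ProjSpace.toSpec r k) ↔
      ∀ v : Fin (r + 1) → K, v ≠ 0 → aeval v G.1 = 0 → ∃ l, aeval v (pderiv l G.1) ≠ 0 :=
  (smooth_iff_singIdeal G hG).trans (singIdeal_eq_top_iff G K)

end

end Groth.Agent.HypSmooth
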