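import Groth.Agent.ZetaLib.ProjPoints

/-!
# Points of projective space as normalised coordinate vectors
-/

universe u

open CategoryTheory AlgebraicGeometry
open HomogeneousLocalization (Away)

namespace Groth.Agent.ZetaLib

noncomputable section

variable {n : ℕ} {k : Type u} [Field k] {K : Type u} [Field K] [Algebra k K]

local notation "𝒜" => CohB1.polyGrading n k
local notation "T" => (MvPolynomial.X : Fin (n + 1) → MvPolynomial (Fin (n + 1)) k)

theorem pointAt_toSpec (i : Fin (n + 1)) (v : Fin (n + 1) → K) (hv : v i = 1) :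
    pointAt (k := k) i v hv ≫ CohB1.ProjSpace.toSpec n k =
      Spec.map (CommRingCat.ofHom (algebraMap k K)) := by
  rw [pointAt, Category.assoc, chart_toSpec, ← Spec.map_comp, ← CommRingCat.ofHom_comp, evalAt_base]

theorem pointAt_injective : Function.Injective
    fun t : Normalized n K => pointAt (k := k) t.1 t.2.1 t.2.2.1 := by
  rintro ⟨i, v, hv, hv'⟩ ⟨j, w, hw, hw'⟩ h
  have h' : pointAt (k := k) i v hv = pointAt j w hw := h
  have hiff : ∀ l, v l ≠ 0 ↔ w l ≠ 0 := fun l => by
    rw [← pointAt_mem_iff (k := k) i v hv, h', pointAt_mem_iff]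
  obtain rfl : i = j := by
    rcases lt_trichotomy i j with hlt | he | hlt
    · exact absurd (hw' i hlt) ((hiff i).1 (by rw [hv]; exact one_ne_zero))
    · exact he
    · exact absurd (hv' j hlt) ((hiff j).2 (by rw [hw]; exact one_ne_zero))
  have h2 := congrArg CommRingCat.Hom.hom (Spec.map_injective ((cancel_mono (chart n k i)).1 h'))
  obtain rfl : v = w := funext fun l => by
    rw [← evalAt_coord (k := k) i v hv l, ← evalAt_coord (k := k) i w hw l]
    exact RingHom.congr_fun h2 _
  rfl

theorem pointAt_surjective (g : Spec (CommRingCat.of K) ⟶ CohB1.ProjSpace n k)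
    (hg : g ≫ CohB1.ProjSpace.toSpec n k = Spec.map (CommRingCat.ofHom (algebraMap k K))) :
    ∃ t : Normalized n K, pointAt (k := k) t.1 t.2.1 t.2.2.1 = g := by
  classical
  have hover : ∀ (i : Fin (n + 1)) (φ : Away 𝒜 (T i) →+* K),
      (Spec.map (CommRingCat.ofHom φ) ≫ chart n k i) ≫ CohB1.ProjSpace.toSpec n k =
        Spec.map (CommRingCat.ofHom (algebraMap k K)) ↔ φ.comp (base n k i) = algebraMap k K := by
    intro i φ
    rw [Category.assoc, chart_toSpec, ← Spec.map_comp, Spec.map_inj, ← CommRingCat.ofHom_comp]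
    exact ⟨fun h => congrArg CommRingCat.Hom.hom h, fun h => congrArg CommRingCat.ofHom h⟩
  let S := Finset.univ.filter fun i => g (IsLocalRing.closedPoint K) ∈ Set.range (chart n k i)
  obtain ⟨i₀, hi₀⟩ := exists_mem_chart (n := n) (k := k) (g (IsLocalRing.closedPoint K))
  obtain ⟨i, hi, hmin⟩ : ∃ i, g (IsLocalRing.closedPoint K) ∈ Set.range (chart n k i) ∧
      ∀ j < i, g (IsLocalRing.closedPoint K) ∉ Set.range (chart n k j) :=
    ⟨S.min' ⟨i₀, Finset.mem_filter.2 ⟨Finset.mem_univ _, hi₀⟩⟩,
      (Finset.mem_filter.1 (S.min'_mem _)).2, fun j hj hjS =>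
        (not_le.2 hj) (S.min'_le j (Finset.mem_filter.2 ⟨Finset.mem_univ _, hjS⟩))⟩
  have hsub : Set.range g ⊆ Set.range (chart n k i) := by
    rintro _ ⟨y, rfl⟩
    obtain rfl : y = IsLocalRing.closedPoint K := Subsingleton.elim _ _
    exact hi
  obtain ⟨φ, hφ⟩ : ∃ φ : Away 𝒜 (T i) →+* K,
      Spec.map (CommRingCat.ofHom φ) ≫ chart n k i = g :=
    ⟨(Spec.preimage (IsOpenImmersion.lift (chart n k i) g hsub)).hom, by
      rw [CommRingCat.ofHom_hom, Spec.map_preimage, IsOpenImmersion.lift_fac]⟩
  have hb : φ.comp (base n k i) = algebraMap k K := (hover i φ).1 (by rw [hφ]; exact hg)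
  have hii : φ (coord n k i i) = 1 := by
    rw [← map_one φ]
    congr 1
    refine HomogeneousLocalization.val_injective _ ?_
    rw [coord, HomogeneousLocalization.Away.val_mk, HomogeneousLocalization.val_one,
      ← Localization.mk_self (⟨T i ^ 1, 1, rfl⟩ : Submonoid.powers (T i))]
    simp only [pow_one]
  have heq : pointAt i (fun l => φ (coord n k i l)) hii = g := by
    rw [pointAt, ringHom_eq_iff i (φ := evalAt i _ hii) (ψ := φ)
      (by rw [evalAt_base, hb]) fun l => evalAt_coord i _ hii l, hφ]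
  refine ⟨⟨i, fun l => φ (coord n k i l), hii, fun j hj => ?_⟩, heq⟩
  by_contra hne
  have hm := (pointAt_mem_iff (k := k) i (fun l => φ (coord n k i l)) hii j).2 hne
  rw [heq] at hm
  exact hmin j hj hm

end

end Groth.Agent.ZetaLib
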