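import Groth.Agent.HypSmooth.Projective
import Groth.Agent.HypSmooth.NormalizedPoints
import Groth.Prelude.Def_SgaExt
import Groth.Agent.LefPenLib.Change

/-!
# Rational points of a projective hypersurface over a finite field
-/

set_option backward.isDefEq.respectTransparency false
set_option backward.isDefEq.respectTransparency.types false
set_option linter.unusedSectionVars false
set_option linter.style.haveILetI false

universe u

open CategoryTheory AlgebraicGeometry MvPolynomial
open HomogeneousLocalization (Away)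

namespace Groth.Agent.HypSmooth

noncomputable section

variable {r d : ℕ} {k : Type u} [Field k]

attribute [local instance] LefPenLib.wAlgebra

theorem awayι_eq (i : Fin (r + 1)) :
    ZetaLib.chart r k i = Spec.map (Proj.basicOpenIsoAway (CohB1.polyGrading r k) (X i)
      (LefPen.X_mem r k i) Nat.one_pos).inv ≫ (LefPenLib.chartAff i).2.fromSpec := by
  set e := Proj.basicOpenIsoAway (CohB1.polyGrading r k) (X i) (LefPen.X_mem r k i) Nat.one_pos
  show (Proj.basicOpenIsoSpec _ _ _ _).inv ≫ (Proj.basicOpen (CohB1.polyGrading r k) (X i)).ι = _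
  rw [Iso.inv_comp_eq, Proj.basicOpenIsoSpec_hom, Proj.basicOpenToSpec, Category.assoc, ← Category.assoc (Spec.map _),
    ← Spec.map_comp]
  rw [show e.inv ≫ Proj.awayToSection (CohB1.polyGrading r k) (X i) = 𝟙 _ from e.inv_hom_id, Spec.map_id,
    Category.id_comp]
  exact (IsAffineOpen.toSpecΓ_fromSpec (LefPenLib.chartAff i).2).symm

theorem evalAt_dehom {K : Type u} [Field K] [Algebra k K] (i : Fin (r + 1)) (v : Fin (r + 1) → K) (hv : v i = 1)
    (p : MvPolynomial (Fin (r + 1)) k) : ZetaLib.evalAt i v hv (ZetaLib.dehom r k i p) = aeval v p := by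
  refine DFunLike.congr_fun (?_ : (ZetaLib.evalAt i v hv).comp (ZetaLib.dehom r k i) = (aeval v).toRingHom) p
  refine MvPolynomial.ringHom_ext (fun c => ?_) (fun l => ?_)
  · simp only [RingHom.comp_apply, ZetaLib.dehom, eval₂Hom_C, AlgHom.toRingHom_eq_coe, RingHom.coe_coe, aeval_C]
    exact DFunLike.congr_fun (ZetaLib.evalAt_base i v hv) c
  · simp only [RingHom.comp_apply, ZetaLib.dehom, eval₂Hom_X', AlgHom.toRingHom_eq_coe, RingHom.coe_coe, aeval_X]
    exact ZetaLib.evalAt_coord i v hv l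

variable (G : LefPen.Form r k d)

/-- A point in a chart lies on the hypersurface iff the form vanishes at it. -/
theorem factors_pointAt_iff (i : Fin (r + 1)) (v : Fin (r + 1) → k) (hv : v i = 1) :
    (∃ h : Spec (CommRingCat.of k) ⟶ (LefPen.hypIdeal G).subscheme,
      h ≫ (LefPen.hypIdeal G).subschemeι = ZetaLib.pointAt i v hv) ↔ eval v G.1 = 0 := by
  let ι := (LefPen.hypIdeal G).subschemeι
  let e := Proj.basicOpenIsoAway (CohB1.polyGrading r k) (X i) (LefPen.X_mem r k i) Nat.one_pos
  let φ : Γ(CohB1.ProjSpace r k, LefPen.chart r k i) ⟶ CommRingCat.of k :=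
    e.inv ≫ CommRingCat.ofHom (ZetaLib.evalAt i v hv)
  have hp : ZetaLib.pointAt i v hv = Spec.map φ ≫ (LefPenLib.chartAff i).2.fromSpec := by
    rw [ZetaLib.pointAt, awayι_eq, Spec.map_comp, Category.assoc]
  have hφ : ∀ p, φ ((Proj.awayToSection (CohB1.polyGrading r k) (X i)).hom (ZetaLib.dehom r k i p)) = eval v p := by
    intro p
    show ZetaLib.evalAt i v hv (e.inv (e.hom (ZetaLib.dehom r k i p))) = _
    rw [Iso.hom_inv_id_apply, evalAt_dehom, aeval_eq_eval]
  have hW : IsAffineOpen (ι ⁻¹ᵁ (LefPenLib.chartAff i).1) := LefPenLib.isAffine_wOpen ι i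
  have hcomm : ∀ ψ : Γ((LefPen.hypIdeal G).subscheme, ι ⁻¹ᵁ (LefPenLib.chartAff i).1) ⟶ CommRingCat.of k,
      (Spec.map ψ ≫ hW.fromSpec) ≫ ι =
        Spec.map (ι.app (LefPenLib.chartAff i).1 ≫ ψ) ≫ (LefPenLib.chartAff i).2.fromSpec := by
    intro ψ
    rw [Spec.map_comp, Category.assoc, Category.assoc, Scheme.Hom.app_eq_appLE,
      IsAffineOpen.SpecMap_appLE_fromSpec ι (LefPenLib.chartAff i).2 hW]
  constructor
  · rintro ⟨h, hh⟩
    have hrange : Set.range h ⊆ Set.range hW.fromSpec := by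
      rw [hW.range_fromSpec]
      rintro _ ⟨x, rfl⟩
      show ι (h x) ∈ (LefPenLib.chartAff i).1
      rw [← Scheme.Hom.comp_apply, hh, hp, Scheme.Hom.comp_apply]
      exact (LefPenLib.chartAff i).2.opensRange_fromSpec.le ⟨_, rfl⟩
    obtain ⟨ψ, hψ⟩ : ∃ ψ, Spec.map ψ ≫ hW.fromSpec = h :=
      ⟨Spec.preimage (IsOpenImmersion.lift hW.fromSpec h hrange),
        by rw [Spec.map_preimage, IsOpenImmersion.lift_fac]⟩
    rw [← hψ, hp, hcomm, cancel_mono, Spec.map_inj] at hh
    have h0 := DFunLike.congr_fun (congrArg CommRingCat.Hom.hom hh.symm)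
      ((Proj.awayToSection (CohB1.polyGrading r k) (X i)).hom (ZetaLib.dehom r k i G.1))
    rw [hφ, CommRingCat.comp_apply] at h0
    rw [h0, ← LefPenLib.dehom_eq]
    have hk : ι.app (LefPenLib.chartAff i).1 (LefPen.dehom G i) = 0 := by
      rw [← RingHom.mem_ker, Scheme.IdealSheafData.ker_subschemeι_app, LefPenLib.hypIdeal_chart]
      exact Ideal.mem_span_singleton_self _
    exact (congrArg ψ.hom hk).trans (map_zero _)
  · intro h0
    have hk : RingHom.ker (ι.app (LefPenLib.chartAff i).1).hom ≤ RingHom.ker φ.hom := by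
      rw [Scheme.IdealSheafData.ker_subschemeι_app, LefPenLib.hypIdeal_chart, Ideal.span_singleton_le_iff_mem,
        RingHom.mem_ker, LefPenLib.dehom_eq]
      exact (hφ G.1).trans h0
    have hs : Function.Surjective (ι.app (LefPenLib.chartAff i).1).hom :=
      Scheme.IdealSheafData.subschemeι_app_surjective _ _
    let ψ := CommRingCat.ofHom ((ι.app (LefPenLib.chartAff i).1).hom.liftOfSurjective hs ⟨φ.hom, hk⟩)
    refine ⟨Spec.map ψ ≫ hW.fromSpec, ?_⟩
    rw [hcomm, hp]
    congr 2
    exact CommRingCat.hom_ext (RingHom.liftOfRightInverse_comp _ _ _ ⟨φ.hom, hk⟩)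

/-- The rational points of the hypersurface are the normalised zeros of the form. -/
theorem card_points [Finite k] :
    SgaExt.pointCount ((LefPen.hypIdeal G).subschemeι ≫ CohB1.ProjSpace.toSpec r k) k =
      Nat.card {t : ZetaLib.Normalized r k // eval t.2.1 G.1 = 0} := by
  let ι := (LefPen.hypIdeal G).subschemeι
  let pt : ZetaLib.Normalized r k → (Spec (CommRingCat.of k) ⟶ CohB1.ProjSpace r k) :=
    fun t => ZetaLib.pointAt t.1 t.2.1 t.2.2.1
  have hinj : Function.Injective pt := ZetaLib.pointAt_injective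
  have hsurj := ZetaLib.pointAt_surjective (n := r) (k := k) (K := k)
  have hover := ZetaLib.pointAt_toSpec (n := r) (k := k) (K := k)
  let F : {t : ZetaLib.Normalized r k // eval t.2.1 G.1 = 0} →
      {g : Spec (CommRingCat.of k) ⟶ (LefPen.hypIdeal G).subscheme //
        g ≫ (ι ≫ CohB1.ProjSpace.toSpec r k) = Spec.map (CommRingCat.ofHom (algebraMap k k))} :=
    fun t => ⟨((factors_pointAt_iff G _ _ t.1.2.2.1).2 t.2).choose, by
      rw [← Category.assoc, ((factors_pointAt_iff G _ _ t.1.2.2.1).2 t.2).choose_spec]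
      exact hover _ _ _⟩
  have hF : ∀ t, (F t).1 ≫ ι = pt t.1 := fun t =>
    ((factors_pointAt_iff G _ _ t.1.2.2.1).2 t.2).choose_spec
  refine (Nat.card_congr (Equiv.ofBijective F ⟨fun a b h => Subtype.ext (hinj ?_), fun g => ?_⟩)).symm
  · rw [← hF a, ← hF b, h]
  · obtain ⟨t, ht⟩ := hsurj (g.1 ≫ ι) (by rw [Category.assoc]; exact g.2)
    have hz : eval t.2.1 G.1 = 0 := (factors_pointAt_iff G _ _ t.2.2.1).1 ⟨g.1, ht.symm⟩
    refine ⟨⟨t, hz⟩, Subtype.ext ?_⟩
    rw [← cancel_mono ι, hF]
    exact ht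

end

end Groth.Agent.HypSmooth
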