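import Groth.Agent.HypSmooth.QuadCount
import Groth.Agent.ZetaLib.ProjPoints
import Mathlib.LinearAlgebra.Pi
import Mathlib.RingTheory.MvPolynomial.Homogeneous

/-!
# Quadratic forms attached to homogeneous polynomials of degree two, and cones of zeros
-/

universe u v

open MvPolynomial

namespace Groth.Agent.HypSmooth

variable {k : Type u} [Field k]

theorem eq_add_single {σ : Type v} (s : σ →₀ ℕ) (h : s.degree = 2) :
    ∃ a b, s = Finsupp.single a 1 + Finsupp.single b 1 := by
  classical
  have hne : s ≠ 0 := by rintro rfl; simp at h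
  obtain ⟨a, ha⟩ := Finsupp.ne_iff.1 hne
  rw [Finsupp.zero_apply] at ha
  have hle : Finsupp.single a 1 ≤ s := Finsupp.single_le_iff.2 (Nat.one_le_iff_ne_zero.2 ha)
  have h1 : (s - Finsupp.single a 1).degree = 1 := by
    have := Finsupp.degree.map_add (s - Finsupp.single a 1) (Finsupp.single a 1)
    rw [tsub_add_cancel_of_le hle, Finsupp.degree_single, h] at this
    omega
  have hne1 : s - Finsupp.single a 1 ≠ 0 := fun h0 => by rw [h0] at h1; simp at h1
  obtain ⟨b, hb⟩ := Finsupp.ne_iff.1 hne1
  rw [Finsupp.zero_apply] at hb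
  have hle1 : Finsupp.single b 1 ≤ s - Finsupp.single a 1 :=
    Finsupp.single_le_iff.2 (Nat.one_le_iff_ne_zero.2 hb)
  have h2 : (s - Finsupp.single a 1 - Finsupp.single b 1).degree = 0 := by
    have := Finsupp.degree.map_add (s - Finsupp.single a 1 - Finsupp.single b 1) (Finsupp.single b 1)
    rw [tsub_add_cancel_of_le hle1, Finsupp.degree_single, h1] at this
    omega
  rw [Finsupp.degree_eq_zero_iff] at h2
  refine ⟨a, b, ?_⟩
  conv_lhs => rw [← tsub_add_cancel_of_le hle, ← tsub_add_cancel_of_le hle1, h2, zero_add, add_comm]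

/-- A homogeneous polynomial of degree two is a quadratic form; its polar is given by the partial
derivatives. -/
theorem exists_quadraticForm {N : ℕ} (p : MvPolynomial (Fin N) k) (hp : p.IsHomogeneous 2) :
    ∃ Q : QuadraticForm k (Fin N → k), (∀ v, Q v = eval v p) ∧
      ∀ v w, QuadraticMap.polar Q v w = ∑ l, w l * eval v (pderiv l p) := by
  classical
  have hmono : ∀ s ∈ p.support, ∃ Q : QuadraticForm k (Fin N → k), (∀ v, Q v = eval v (monomial s (coeff s p))) ∧
      ∀ v w, QuadraticMap.polar Q v w = ∑ l, w l * eval v (pderiv l (monomial s (coeff s p))) := by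
    intro s hs
    obtain ⟨a, b, hab⟩ := eq_add_single s (by
      rw [Finsupp.degree_eq_weight_one]; exact hp (mem_support_iff.1 hs))
    have hm : monomial s (coeff s p) = C (coeff s p) * X a * X b := by
      rw [hab, X, X, mul_assoc, monomial_mul, C_mul_monomial, one_mul, mul_one]
    refine ⟨coeff s p • QuadraticMap.linMulLin (LinearMap.proj a) (LinearMap.proj b), fun v => ?_, fun v w => ?_⟩
    · rw [hm]; simp [mul_assoc]
    · rw [hm]
      have h : ∀ l, eval v (pderiv l (C (coeff s p) * X a * X b)) =
          coeff s p * ((if a = l then v b else 0) + v a * (if b = l then 1 else 0)) := fun l => by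
        simp [pderiv_mul, pderiv_X, Pi.single_apply, apply_ite (eval v)]
        split_ifs <;> ring
      simp only [h, QuadraticMap.polar, mul_add, Finset.sum_add_distrib, mul_ite, mul_zero,
        Finset.sum_ite_eq, Finset.mem_univ, if_true]
      simp
      ring
  choose! F hF using hmono
  refine ⟨∑ s ∈ p.support, F s, fun v => ?_, fun v w => ?_⟩
  · conv_rhs => rw [p.as_sum, map_sum]
    rw [QuadraticMap.sum_apply]
    exact Finset.sum_congr rfl fun s hs => (hF s hs).1 v
  · conv_rhs => rw [p.as_sum]
    simp only [map_sum, Finset.mul_sum]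
    rw [Finset.sum_comm, ← Finset.sum_congr rfl (fun s hs => (hF s hs).2 v w)]
    simp only [QuadraticMap.polar, QuadraticMap.sum_apply, Finset.sum_sub_distrib]

/-- Nonzero vectors are scalars times normalised vectors. -/
theorem card_cone [Finite k] {N : ℕ} (S : (Fin (N + 1) → k) → Prop) (h0 : S 0)
    (hS : ∀ (c : k) (v : Fin (N + 1) → k), c ≠ 0 → (S (c • v) ↔ S v)) :
    Nat.card {v : Fin (N + 1) → k // S v} =
      (Nat.card k - 1) * Nat.card {t : ZetaLib.Normalized N k // S t.2.1} + 1 := by
  classical
  haveI := Fintype.ofFinite k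
  let F : Option ({c : k // c ≠ 0} × {t : ZetaLib.Normalized N k // S t.2.1}) → {v : Fin (N + 1) → k // S v} :=
    fun o => o.elim ⟨0, h0⟩ fun p => ⟨p.1.1 • p.2.1.2.1, (hS _ _ p.1.2).2 p.2.2⟩
  have hF : Function.Bijective F := by
    constructor
    · rintro (_ | ⟨⟨c, hc⟩, ⟨i, v, hv, hv'⟩, hSv⟩) (_ | ⟨⟨c', hc'⟩, ⟨j, w, hw, hw'⟩, hSw⟩) h
      · rfl
      · have := congrFun (congrArg Subtype.val h) j
        simp [F, hw] at this
        exact absurd this.symm hc'
      · have := congrFun (congrArg Subtype.val h) i
        simp [F, hv] at this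
        exact absurd this hc
      · have he : ∀ l, c * v l = c' * w l := congrFun (congrArg Subtype.val h)
        obtain rfl : i = j := by
          rcases lt_trichotomy i j with hlt | he' | hlt
          · have := he i; rw [hv, hw' i hlt, mul_zero, mul_one] at this; exact absurd this hc
          · exact he'
          · have := he j; rw [hw, hv' j hlt, mul_zero, mul_one] at this; exact absurd this.symm hc'
        obtain rfl : c = c' := by simpa [hv, hw] using he i
        obtain rfl : v = w := funext fun l => mul_left_cancel₀ hc (he l)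
        rfl
    · rintro ⟨v, hv⟩
      by_cases h : v = 0
      · exact ⟨none, Subtype.ext h.symm⟩
      let T := Finset.univ.filter fun i => v i ≠ 0
      have hT : T.Nonempty := by
        obtain ⟨i, hi⟩ := Function.ne_iff.1 h
        exact ⟨i, Finset.mem_filter.2 ⟨Finset.mem_univ _, hi⟩⟩
      have hi : v (T.min' hT) ≠ 0 := (Finset.mem_filter.1 (T.min'_mem hT)).2
      refine ⟨some (⟨v (T.min' hT), hi⟩, ⟨⟨T.min' hT, (v (T.min' hT))⁻¹ • v, ?_, fun j hj => ?_⟩, ?_⟩), ?_⟩
      · simp [inv_mul_cancel₀ hi]
      · by_contra hne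
        have hne' : v j ≠ 0 := fun h0 => hne (by simp [h0])
        exact (not_le.2 hj) (T.min'_le j (Finset.mem_filter.2 ⟨Finset.mem_univ _, hne'⟩))
      · exact (hS _ _ (inv_ne_zero hi)).2 hv
      · exact Subtype.ext (by simp [F, smul_smul, mul_inv_cancel₀ hi])
  rw [← Nat.card_congr (Equiv.ofBijective F hF), Finite.card_option, Nat.card_prod,
    show Nat.card {c : k // c ≠ 0} = Nat.card k - 1 by
      rw [Nat.card_eq_fintype_card, Fintype.card_subtype_compl, Fintype.card_subtype_eq, Nat.card_eq_fintype_card]]

end Groth.Agent.HypSmooth
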