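import Mathlib.RingTheory.Smooth.Basic
import Mathlib.RingTheory.Kaehler.Polynomial
import Mathlib.RingTheory.TensorProduct.Free
import Mathlib.RingTheory.Polynomial.Basic

/-!
# Smoothness of an affine hypersurface over a field

The ring `k[x]/(f)`, `f ≠ 0`, is smooth over `k` iff `f` and its partial derivatives generate the unit
ideal.  Both directions come from the splitting of `(f)/(f²) → A ⊗ Ω`.
-/

universe u v

open MvPolynomial TensorProduct KaehlerDifferential

namespace Groth.Agent.HypSmooth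

noncomputable section

variable {k : Type u} [Field k] {σ : Type v}

local notation "P" => MvPolynomial σ k

/-- The ideal of singular points of an affine hypersurface. -/
def singIdeal (f : MvPolynomial σ k) : Ideal (MvPolynomial σ k) :=
  Ideal.span {f} ⊔ Ideal.span (Set.range fun j => pderiv j f)

theorem formallySmooth_iff [Fintype σ] (f : MvPolynomial σ k) (hf : f ≠ 0) :
    Algebra.FormallySmooth k (MvPolynomial σ k ⧸ Ideal.span {f}) ↔ singIdeal f = ⊤ := by
  classical
  rw [Algebra.FormallySmooth.iff_split_injection (R := k) (A := P ⧸ Ideal.span {f}) Ideal.Quotient.mk_surjective]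
  have hIf : RingHom.ker (algebraMap P (P ⧸ Ideal.span {f})) = Ideal.span {f} := by
    rw [Ideal.Quotient.algebraMap_eq, Ideal.mk_ker]
  have hfI : f ∈ RingHom.ker (algebraMap P (P ⧸ Ideal.span {f})) :=
    hIf.symm.le (Ideal.mem_span_singleton_self f)
  set c : (RingHom.ker (algebraMap P (P ⧸ Ideal.span {f}))).Cotangent := (RingHom.ker (algebraMap P (P ⧸ Ideal.span {f}))).toCotangent ⟨f, hfI⟩
  have hgen : ∀ y : (RingHom.ker (algebraMap P (P ⧸ Ideal.span {f}))).Cotangent, ∃ a : P, y = a • c := by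
    intro y
    obtain ⟨⟨z, hz⟩, rfl⟩ := (RingHom.ker (algebraMap P (P ⧸ Ideal.span {f}))).toCotangent_surjective y
    obtain ⟨a, ha⟩ := Ideal.mem_span_singleton'.1 (hIf.le hz)
    exact ⟨a, by rw [← map_smul]; exact congrArg _ (Subtype.ext ha.symm)⟩
  have hd : kerCotangentToTensor k P (P ⧸ Ideal.span {f}) c =
      ∑ j, (algebraMap P (P ⧸ Ideal.span {f}) (pderiv j f)) • ((1 : (P ⧸ Ideal.span {f})) ⊗ₜ[P] D k P (X j)) := by
    rw [kerCotangentToTensor_toCotangent]
    conv_lhs => rw [← (mvPolynomialBasis k σ).sum_repr (D k P f)]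
    rw [TensorProduct.tmul_sum]
    refine Finset.sum_congr rfl fun j _ => ?_
    rw [mvPolynomialBasis_repr_apply, mvPolynomialBasis_apply, TensorProduct.tmul_smul, algebraMap_smul]
  constructor
  · rintro ⟨l, hl⟩
    have h := LinearMap.congr_fun hl c
    rw [LinearMap.comp_apply, hd, map_sum, LinearMap.id_apply] at h
    choose g hg using fun j => hgen (l ((1 : (P ⧸ Ideal.span {f})) ⊗ₜ[P] D k P (X j)))
    simp only [algebraMap_smul, map_smul, hg, smul_smul, ← Finset.sum_smul] at h
    rw [← map_smul, ← sub_eq_zero, ← map_sub, Ideal.toCotangent_eq_zero] at h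
    replace h := SetLike.le_def.1 (congrArg (· ^ 2) hIf).le h
    rw [Ideal.span_singleton_pow, Ideal.mem_span_singleton'] at h
    obtain ⟨a, ha⟩ := h
    simp only [SetLike.val_smul, AddSubgroupClass.coe_sub, smul_eq_mul] at ha
    have h1 : (∑ j, pderiv j f * g j) - 1 = a * f := mul_right_cancel₀ hf (by linear_combination (-1 : P) * ha)
    rw [Ideal.eq_top_iff_one, show (1 : P) = ∑ j, pderiv j f * g j - a * f by linear_combination -h1]
    exact sub_mem (sum_mem fun j _ => Ideal.mul_mem_right _ _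
      (Ideal.mem_sup_right (Ideal.subset_span ⟨j, rfl⟩)))
      (Ideal.mul_mem_left _ _ (Ideal.mem_sup_left (Ideal.mem_span_singleton_self f)))
  · intro h
    obtain ⟨y, hy, z, hz, hyz⟩ := Submodule.mem_sup.1 ((Ideal.eq_top_iff_one _).1 h)
    obtain ⟨g, hg⟩ := Ideal.mem_span_range_iff_exists_fun.1 hz
    obtain ⟨a, ha⟩ := Ideal.mem_span_singleton'.1 hy
    have hfc : f • c = 0 := by
      rw [← map_smul, Ideal.toCotangent_eq_zero, pow_two]
      exact Ideal.mul_mem_mul hfI hfI
    let b := Algebra.TensorProduct.basis (P ⧸ Ideal.span {f}) (mvPolynomialBasis k σ)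
    let ψ : (P ⧸ Ideal.span {f}) ⊗[P] Ω[P⁄k] →ₗ[(P ⧸ Ideal.span {f})] (P ⧸ Ideal.span {f}) := b.constr (P ⧸ Ideal.span {f}) fun j => algebraMap P (P ⧸ Ideal.span {f}) (g j)
    let m : (P ⧸ Ideal.span {f}) →ₗ[P] (RingHom.ker (algebraMap P (P ⧸ Ideal.span {f}))).Cotangent := Submodule.liftQ (Ideal.span {f}) (LinearMap.toSpanSingleton P _ c) (by
      intro x hx
      obtain ⟨w, rfl⟩ := Ideal.mem_span_singleton'.1 hx
      rw [LinearMap.mem_ker, LinearMap.toSpanSingleton_apply, mul_smul, hfc, smul_zero])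
    refine ⟨m.comp (ψ.restrictScalars P), ?_⟩
    have hψ : ψ (kerCotangentToTensor k P (P ⧸ Ideal.span {f}) c) = 1 := by
      rw [hd, map_sum]
      have hb : ∀ j, (1 : (P ⧸ Ideal.span {f})) ⊗ₜ[P] D k P (X j) = b j := fun j => by
        rw [Algebra.TensorProduct.basis_apply, mvPolynomialBasis_apply]
      simp only [map_smul, hb, ψ, Module.Basis.constr_basis, smul_eq_mul, ← map_mul, ← map_sum]
      rw [← map_one (algebraMap P (P ⧸ Ideal.span {f})), ← hyz, map_add, ← ha, map_mul,
        show algebraMap P (P ⧸ Ideal.span {f}) f = 0 from Ideal.Quotient.eq_zero_iff_mem.2 (Ideal.mem_span_singleton_self f),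
        mul_zero, zero_add, ← hg]
      exact congrArg _ (Finset.sum_congr rfl fun j _ => mul_comm _ _)
    refine LinearMap.ext fun w => ?_
    obtain ⟨q, rfl⟩ := hgen w
    rw [map_smul, LinearMap.id_apply]
    refine congrArg (q • ·) ?_
    show m (ψ (kerCotangentToTensor k P (P ⧸ Ideal.span {f}) c)) = c
    rw [hψ]
    exact one_smul P c

theorem smooth_iff [Fintype σ] (f : MvPolynomial σ k) (hf : f ≠ 0) :
    Algebra.Smooth k (MvPolynomial σ k ⧸ Ideal.span {f}) ↔ singIdeal f = ⊤ := by
  rw [← formallySmooth_iff f hf]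
  refine ⟨fun h => h.formallySmooth, fun h => ⟨h, ?_⟩⟩
  exact Algebra.FinitePresentation.quotient (Submodule.fg_span_singleton f)

end

end Groth.Agent.HypSmooth
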