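import Mathlib.LinearAlgebra.QuadraticForm.Basis
import Mathlib.FieldTheory.ChevalleyWarning
import Mathlib.LinearAlgebra.FiniteDimensional.Lemmas
import Mathlib.LinearAlgebra.Basis.VectorSpace

/-!
# The number of zeros of a nondegenerate quadratic form over a finite field

Here nondegenerate means that no nonzero isotropic vector is orthogonal to everything, so characteristic
two is included.
-/

universe u v

open Module QuadraticMap

namespace Groth.Agent.HypSmooth

variable {k : Type u} [Field k]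

/-- No nonzero isotropic vector is orthogonal to the whole space. -/
def QNondeg {V : Type v} [AddCommGroup V] [Module k V] (Q : QuadraticForm k V) : Prop :=
  ∀ v : V, v ≠ 0 → Q v = 0 → ∃ w, polar Q v w ≠ 0

/-- The number of zeros, the zero vector included. -/
noncomputable def zeroCount {V : Type v} [AddCommGroup V] [Module k V] (Q : QuadraticForm k V) : ℕ :=
  Nat.card {v : V // Q v = 0}

/-- There is an isotropic subspace of dimension `l`. -/
def HasIso {V : Type v} [AddCommGroup V] [Module k V] (Q : QuadraticForm k V) (l : ℕ) : Prop :=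
  ∃ U : Submodule k V, finrank k U = l ∧ ∀ u ∈ U, Q u = 0

variable {V : Type v} [AddCommGroup V] [Module k V] (Q : QuadraticForm k V)

theorem map_add_smul (a : k) (e x : V) : Q (a • e + x) = a * a * Q e + a * polar Q e x + Q x := by
  rw [QuadraticMap.map_add (Q : V → k), QuadraticMap.map_smul, polar_smul_left, smul_eq_mul, smul_eq_mul]
  ring

/-- A hyperbolic pair. -/
theorem exists_pair (hQ : QNondeg Q) {e : V} (he : e ≠ 0) (he0 : Q e = 0) :
    ∃ f, polar Q e f = 1 ∧ Q f = 0 := by
  obtain ⟨w, hw⟩ := hQ e he he0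
  set f₀ := (polar Q e w)⁻¹ • w
  have h1 : polar Q e f₀ = 1 := by rw [polar_smul_right, smul_eq_mul, inv_mul_cancel₀ hw]
  refine ⟨(-Q f₀) • e + f₀, ?_, ?_⟩
  · rw [polar_add_right, polar_smul_right, h1, polar_self, he0, smul_zero, smul_zero, zero_add]
  · rw [map_add_smul, he0, h1]; ring

/-- The orthogonal complement of a hyperbolic pair. -/
def pairPerp (e f : V) : Submodule k V :=
  LinearMap.ker ((Q.polarBilin e).prod (Q.polarBilin f))

theorem mem_pairPerp {e f x : V} : x ∈ pairPerp Q e f ↔ polar Q e x = 0 ∧ polar Q f x = 0 := by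
  rw [pairPerp, LinearMap.mem_ker, LinearMap.prod_apply, Function.prod_apply, Prod.mk_eq_zero,
    polarBilin_apply_apply, polarBilin_apply_apply]

variable {Q} {e f : V}

/-- The decomposition by a hyperbolic pair. -/
def pairEquiv (he0 : Q e = 0) (hf0 : Q f = 0) (hef : polar Q e f = 1) :
    ((k × k) × pairPerp Q e f) ≃ V where
  toFun p := p.1.1 • e + (p.1.2 • f + p.2.1)
  invFun x := ((polar Q f x, polar Q e x), ⟨x - polar Q f x • e - polar Q e x • f, by
    have hfe : polar Q f e = 1 := (polar_comm Q f e).trans hef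
    rw [mem_pairPerp]
    simp only [polar_sub_right, polar_smul_right, smul_eq_mul, hef, hfe, polar_self, he0, hf0, smul_zero,
      mul_zero, mul_one, sub_zero, sub_self, and_self]⟩)
  left_inv p := by
    obtain ⟨⟨a, b⟩, x, hx⟩ := p
    obtain ⟨h1, h2⟩ := (mem_pairPerp Q).1 hx
    have hfe : polar Q f e = 1 := (polar_comm Q f e).trans hef
    have ha : polar Q f (a • e + (b • f + x)) = a := by
      simp [polar_add_right, polar_smul_right, hfe, polar_self, hf0, h2]
    have hb : polar Q e (a • e + (b • f + x)) = b := by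
      simp [polar_add_right, polar_smul_right, hef, polar_self, he0, h1]
    refine Prod.ext (Prod.ext ha hb) (Subtype.ext ?_)
    dsimp only
    rw [ha, hb]; abel
  right_inv x := by dsimp only; abel

theorem map_pairEquiv (he0 : Q e = 0) (hf0 : Q f = 0) (hef : polar Q e f = 1)
    (p : (k × k) × pairPerp Q e f) : Q (pairEquiv he0 hf0 hef p) = p.1.1 * p.1.2 + Q p.2.1 := by
  obtain ⟨⟨a, b⟩, x, hx⟩ := p
  obtain ⟨h1, h2⟩ := (mem_pairPerp Q).1 hx
  show Q (a • e + (b • f + x)) = _
  rw [map_add_smul, map_add_smul, he0, hf0, polar_add_right, polar_smul_right, hef, h1, h2, smul_eq_mul]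
  ring

theorem finrank_pairPerp [FiniteDimensional k V] (he0 : Q e = 0) (hf0 : Q f = 0) (hef : polar Q e f = 1) :
    finrank k (pairPerp Q e f) + 2 = finrank k V := by
  have hfe : polar Q f e = 1 := (polar_comm Q f e).trans hef
  have hs : LinearMap.range ((Q.polarBilin e).prod (Q.polarBilin f)) = ⊤ := by
    refine LinearMap.range_eq_top.2 fun p => ⟨p.2 • e + p.1 • f, ?_⟩
    simp [polar_add_right, polar_smul_right, hef, hfe, polar_self, he0, hf0]
  have h := LinearMap.finrank_range_add_finrank_ker ((Q.polarBilin e).prod (Q.polarBilin f))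
  rw [hs, finrank_top, Module.finrank_prod, Module.finrank_self] at h
  rw [pairPerp]; omega

theorem qNondeg_pairPerp (hQ : QNondeg Q) (he0 : Q e = 0) (hf0 : Q f = 0) (hef : polar Q e f = 1) :
    QNondeg (Q.comp (pairPerp Q e f).subtype) := by
  intro v hv hv0
  obtain ⟨w, hw⟩ := hQ v.1 (fun h => hv (Subtype.ext h)) hv0
  obtain ⟨⟨⟨a, b⟩, x⟩, rfl⟩ := (pairEquiv he0 hf0 hef).surjective w
  refine ⟨x, fun h => hw ?_⟩
  obtain ⟨h1, h2⟩ := (mem_pairPerp Q).1 v.2
  show polar Q v.1 (a • e + (b • f + x.1)) = 0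
  rw [polar_add_right, polar_add_right, polar_smul_right, polar_smul_right, polar_comm Q v.1 e,
    polar_comm Q v.1 f, h1, h2, smul_zero, smul_zero, zero_add, zero_add]
  exact h

theorem card_mul_add_eq_zero [Fintype k] {W : Type v} [Finite W] (φ : W → k) :
    Nat.card {p : (k × k) × W // p.1.1 * p.1.2 + φ p.2 = 0} =
      (Fintype.card k - 1) * Nat.card W + Fintype.card k * Nat.card {w : W // φ w = 0} := by
  classical
  let E : {p : (k × k) × W // p.1.1 * p.1.2 + φ p.2 = 0} ≃
      ({a : k // a ≠ 0} × W) ⊕ (k × {w : W // φ w = 0}) :=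
    { toFun := fun p => if h : p.1.1.1 = 0 then .inr (p.1.1.2, ⟨p.1.2, by simpa [h] using p.2⟩)
        else .inl (⟨p.1.1.1, h⟩, p.1.2)
      invFun := fun s => s.elim (fun q => ⟨((q.1.1, -φ q.2 * q.1.1⁻¹), q.2), by
          have := q.1.2; field_simp; ring⟩) (fun q => ⟨((0, q.1), q.2.1), by simp [q.2.2]⟩)
      left_inv := fun p => by
        obtain ⟨⟨⟨a, b⟩, w⟩, h⟩ := p
        by_cases ha : a = 0
        · subst ha; simp
        · have : -φ w * a⁻¹ = b := by field_simp; linear_combination -h
          simp only [dif_neg ha, Sum.elim_inl]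
          exact Subtype.ext (Prod.ext (Prod.ext rfl this) rfl)
      right_inv := fun s => by
        rcases s with ⟨⟨a, ha⟩, w⟩ | ⟨b, w, hw⟩
        · simp [ha]
        · simp }
  have hne : Nat.card {a : k // a ≠ 0} = Fintype.card k - 1 := by
    rw [Nat.card_eq_fintype_card, Fintype.card_subtype_compl, Fintype.card_subtype_eq]
  rw [Nat.card_congr E, Nat.card_sum, Nat.card_prod, Nat.card_prod, hne, Nat.card_eq_fintype_card (α := k)]

theorem zeroCount_split [Fintype k] [FiniteDimensional k V] (he0 : Q e = 0) (hf0 : Q f = 0)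
    (hef : polar Q e f = 1) :
    (zeroCount Q : ℤ) = ((Fintype.card k : ℤ) - 1) * (Fintype.card k : ℤ) ^ finrank k (pairPerp Q e f) +
      (Fintype.card k : ℤ) * zeroCount (Q.comp (pairPerp Q e f).subtype) := by
  haveI : Finite V := Module.finite_of_finite k
  let E : {v : V // Q v = 0} ≃ {p : (k × k) × pairPerp Q e f // p.1.1 * p.1.2 + Q p.2.1 = 0} :=
    ((pairEquiv he0 hf0 hef).subtypeEquiv fun p => by rw [map_pairEquiv]).symm
  rw [zeroCount, Nat.card_congr E, card_mul_add_eq_zero (fun x : pairPerp Q e f => Q x.1)]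
  rw [Module.natCard_eq_pow_finrank (K := k) (V := pairPerp Q e f), Nat.card_eq_fintype_card (α := k)]
  push_cast [Nat.cast_sub Fintype.card_pos]
  rfl

theorem zeroCount_anisotropic (h : ∀ v : V, Q v = 0 → v = 0) : zeroCount Q = 1 := by
  haveI : Subsingleton {v : V // Q v = 0} := ⟨fun a b => Subtype.ext ((h _ a.2).trans (h _ b.2).symm)⟩
  haveI : Nonempty {v : V // Q v = 0} := ⟨⟨0, QuadraticMap.map_zero Q⟩⟩
  exact Nat.card_unique

/-- A quadratic form in at least three variables over a finite field has a nonzero zero. -/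
theorem exists_isotropic [Fintype k] [FiniteDimensional k V] (h3 : 3 ≤ finrank k V) :
    ∃ e : V, e ≠ 0 ∧ Q e = 0 := by
  classical
  obtain ⟨p, hp⟩ := CharP.exists k
  haveI : Fact p.Prime := ⟨CharP.char_is_prime k p⟩
  let b := Module.finBasis k V
  let P : MvPolynomial (Fin (finrank k V)) k :=
    ∑ i, ∑ j, MvPolynomial.C (Q.toBilin b (b i) (b j)) * MvPolynomial.X i * MvPolynomial.X j
  have hP : ∀ x, MvPolynomial.eval x P = Q (b.equivFun.symm x) := by
    intro x
    have h1 : Q (b.equivFun.symm x) = Q.toBilin b (b.equivFun.symm x) (b.equivFun.symm x) := by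
      conv_lhs => rw [← Q.toQuadraticMap_toBilin b]
      rfl
    rw [h1, Module.Basis.equivFun_symm_apply]
    simp only [P, map_sum, map_mul, MvPolynomial.eval_C, MvPolynomial.eval_X, LinearMap.sum_apply,
      LinearMap.smul_apply, map_smul, smul_eq_mul, Finset.mul_sum]
    rw [Finset.sum_comm]
    exact Finset.sum_congr rfl fun i _ => Finset.sum_congr rfl fun j _ => by ring
  have hdeg : P.totalDegree < Fintype.card (Fin (finrank k V)) := by
    rw [Fintype.card_fin]
    refine lt_of_le_of_lt (MvPolynomial.totalDegree_finsetSum_le fun i _ =>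
      MvPolynomial.totalDegree_finsetSum_le fun j _ => ?_) (show 2 < _ by omega)
    refine (MvPolynomial.totalDegree_mul _ _).trans ?_
    refine (add_le_add (MvPolynomial.totalDegree_mul _ _) le_rfl).trans ?_
    simp [MvPolynomial.totalDegree_C, MvPolynomial.totalDegree_X]
  have hdvd := char_dvd_card_solutions p hdeg
  let z : {x : Fin (finrank k V) → k // MvPolynomial.eval x P = 0} := ⟨0, by
    rw [hP, _root_.map_zero, QuadraticMap.map_zero]⟩
  have hpos : 1 < Fintype.card {x : Fin (finrank k V) → k // MvPolynomial.eval x P = 0} :=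
    lt_of_lt_of_le (Fact.out : p.Prime).one_lt (Nat.le_of_dvd (Fintype.card_pos_iff.2 ⟨z⟩) hdvd)
  obtain ⟨y, hy⟩ := Fintype.exists_ne_of_one_lt_card hpos z
  refine ⟨b.equivFun.symm y.1, fun h => hy (Subtype.ext ?_), (hP _).symm.trans y.2⟩
  exact b.equivFun.symm.injective (h.trans (_root_.map_zero _).symm)

theorem exists_ne_zero_mem {U : Submodule k V} {l : ℕ} (hU : finrank k U = l + 1) :
    ∃ e ∈ U, e ≠ 0 := by
  refine Submodule.exists_mem_ne_zero_of_ne_bot fun h => ?_
  rw [h, finrank_bot] at hU; omega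

theorem hasIso_succ_of_pairPerp [FiniteDimensional k V] (he : e ≠ 0) (he0 : Q e = 0) (hf0 : Q f = 0)
    (hef : polar Q e f = 1) {l : ℕ} (h : HasIso (Q.comp (pairPerp Q e f).subtype) l) : HasIso Q (l + 1) := by
  obtain ⟨U, hU, hU0⟩ := h
  let U' := U.map (pairPerp Q e f).subtype
  have hd : Disjoint (k ∙ e) U' := by
    rw [Submodule.disjoint_def]
    intro x hx hx'
    obtain ⟨a, rfl⟩ := Submodule.mem_span_singleton.1 hx
    obtain ⟨u, -, hu⟩ := Submodule.mem_map.1 hx'
    have h2 := ((mem_pairPerp Q).1 u.2).2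
    rw [show (u : V) = a • e from hu, polar_smul_right, polar_comm, hef, smul_eq_mul, mul_one] at h2
    rw [h2, zero_smul]
  refine ⟨(k ∙ e) ⊔ U', ?_, ?_⟩
  · have h1 := Submodule.finrank_sup_add_finrank_inf_eq (k ∙ e) U'
    rw [hd.eq_bot, finrank_bot, finrank_span_singleton he, Submodule.finrank_map_subtype_eq, hU] at h1
    omega
  · intro x hx
    obtain ⟨y, hy, z, hz, rfl⟩ := Submodule.mem_sup.1 hx
    obtain ⟨a, rfl⟩ := Submodule.mem_span_singleton.1 hy
    obtain ⟨u, hu, rfl⟩ := Submodule.mem_map.1 hz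
    rw [map_add_smul, he0, Submodule.subtype_apply, ((mem_pairPerp Q).1 u.2).1]
    have := hU0 u hu
    rw [QuadraticMap.comp_apply, Submodule.subtype_apply] at this
    rw [this]; ring

theorem hasIso_pairPerp [FiniteDimensional k V] (he : e ≠ 0) (he0 : Q e = 0) (hf0 : Q f = 0)
    (hef : polar Q e f = 1) {U : Submodule k V} {l : ℕ} (hU : finrank k U = l + 1)
    (hU0 : ∀ u ∈ U, Q u = 0) (heU : e ∈ U) : HasIso (Q.comp (pairPerp Q e f).subtype) l := by
  let U' := U.comap (pairPerp Q e f).subtype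
  have hker : U'.map (pairPerp Q e f).subtype = U ⊓ pairPerp Q e f := by
    rw [Submodule.map_comap_subtype, inf_comm]
  have horth : ∀ u ∈ U, polar Q e u = 0 := fun u hu => by
    rw [polar, hU0 _ (U.add_mem heU hu), he0, hU0 u hu]; ring
  have hsup : U = (k ∙ e) ⊔ (U ⊓ pairPerp Q e f) := by
    refine le_antisymm (fun u hu => ?_) (sup_le ((Submodule.span_singleton_le_iff_mem _ _).2 heU) inf_le_left)
    refine Submodule.mem_sup.2 ⟨polar Q f u • e, Submodule.mem_span_singleton.2 ⟨_, rfl⟩, u - polar Q f u • e,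
      ⟨U.sub_mem hu (U.smul_mem _ heU), ?_⟩, by abel⟩
    rw [SetLike.mem_coe, mem_pairPerp, polar_sub_right, polar_smul_right, polar_sub_right, polar_smul_right, horth u hu,
      polar_self, he0, polar_comm Q f e, hef]
    simp
  have hd : (k ∙ e) ⊓ (U ⊓ pairPerp Q e f) = ⊥ := by
    refine Submodule.eq_bot_iff _ |>.2 fun x hx => ?_
    obtain ⟨a, rfl⟩ := Submodule.mem_span_singleton.1 hx.1
    have h2 := ((mem_pairPerp Q).1 hx.2.2).2
    rw [polar_smul_right, polar_comm, hef, smul_eq_mul, mul_one] at h2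
    rw [h2, zero_smul]
  refine ⟨U', ?_, fun u hu => hU0 _ hu⟩
  have h1 := Submodule.finrank_sup_add_finrank_inf_eq (k ∙ e) (U ⊓ pairPerp Q e f)
  rw [← hsup, hd, finrank_bot, finrank_span_singleton he, hU, ← hker, Submodule.finrank_map_subtype_eq] at h1
  omega

/-- Odd dimension. -/
theorem zeroCount_odd [Fintype k] (l : ℕ) : ∀ {V : Type v} [AddCommGroup V] [Module k V]
    [FiniteDimensional k V] (Q : QuadraticForm k V), QNondeg Q → finrank k V = 2 * l + 1 →
      (zeroCount Q : ℤ) = (Fintype.card k : ℤ) ^ (2 * l) := by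
  induction l with
  | zero =>
    intro V _ _ _ Q hQ hd
    rw [zeroCount_anisotropic fun v hv => by_contra fun hv0 => ?_]
    · simp
    obtain ⟨w, hw⟩ := hQ v hv0 hv
    obtain ⟨a, rfl⟩ := (finrank_eq_one_iff_of_nonzero' v hv0).1 (by simpa using hd) w
    exact hw (by rw [polar_smul_right, polar_self, hv, smul_zero, smul_zero])
  | succ l ih =>
    intro V _ _ _ Q hQ hd
    obtain ⟨e, he, he0⟩ := exists_isotropic (Q := Q) (by omega)
    obtain ⟨f, hef, hf0⟩ := exists_pair Q hQ he he0
    have hp := finrank_pairPerp he0 hf0 hef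
    have hpd : finrank k (pairPerp Q e f) = 2 * l + 1 := by omega
    rw [zeroCount_split he0 hf0 hef, ih _ (qNondeg_pairPerp hQ he0 hf0 hef) hpd, hpd]
    ring

/-- Even dimension: the sign is that of splitness. -/
theorem zeroCount_even [Fintype k] (l : ℕ) : ∀ {V : Type v} [AddCommGroup V] [Module k V]
    [FiniteDimensional k V] (Q : QuadraticForm k V), QNondeg Q → finrank k V = 2 * l + 2 →
      (HasIso Q (l + 1) → (zeroCount Q : ℤ) =
        (Fintype.card k : ℤ) ^ (2 * l + 1) + ((Fintype.card k : ℤ) ^ (l + 1) - (Fintype.card k : ℤ) ^ l)) ∧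
      (¬ HasIso Q (l + 1) → (zeroCount Q : ℤ) =
        (Fintype.card k : ℤ) ^ (2 * l + 1) - ((Fintype.card k : ℤ) ^ (l + 1) - (Fintype.card k : ℤ) ^ l)) := by
  induction l with
  | zero =>
    intro V _ _ _ Q hQ hd
    refine ⟨fun ⟨U, hU, hU0⟩ => ?_, fun hno => ?_⟩
    · obtain ⟨e, heU, he⟩ := exists_ne_zero_mem (l := 0) hU
      have he0 := hU0 e heU
      obtain ⟨f, hef, hf0⟩ := exists_pair Q hQ he he0
      have hp := finrank_pairPerp he0 hf0 hef
      have hpd : finrank k (pairPerp Q e f) = 0 := by omega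
      haveI : Subsingleton (pairPerp Q e f) := Module.finrank_zero_iff.1 hpd
      rw [zeroCount_split he0 hf0 hef, zeroCount_anisotropic fun v _ => Subsingleton.elim _ _, hpd]
      push_cast; ring
    · rw [zeroCount_anisotropic fun v hv => by_contra fun hv0 => hno ⟨k ∙ v, finrank_span_singleton hv0, ?_⟩]
      · push_cast; ring
      intro u hu
      obtain ⟨a, rfl⟩ := Submodule.mem_span_singleton.1 hu
      rw [QuadraticMap.map_smul, hv, smul_zero]
  | succ l ih =>
    intro V _ _ _ Q hQ hd
    refine ⟨fun ⟨U, hU, hU0⟩ => ?_, fun hno => ?_⟩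
    · obtain ⟨e, heU, he⟩ := exists_ne_zero_mem (l := l + 1) hU
      have he0 := hU0 e heU
      obtain ⟨f, hef, hf0⟩ := exists_pair Q hQ he he0
      have hp := finrank_pairPerp he0 hf0 hef
      have hpd : finrank k (pairPerp Q e f) = 2 * l + 2 := by omega
      rw [zeroCount_split he0 hf0 hef, (ih _ (qNondeg_pairPerp hQ he0 hf0 hef) hpd).1
        (hasIso_pairPerp he he0 hf0 hef hU hU0 heU), hpd]
      ring
    · obtain ⟨e, he, he0⟩ := exists_isotropic (Q := Q) (by omega)
      obtain ⟨f, hef, hf0⟩ := exists_pair Q hQ he he0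
      have hp := finrank_pairPerp he0 hf0 hef
      have hpd : finrank k (pairPerp Q e f) = 2 * l + 2 := by omega
      rw [zeroCount_split he0 hf0 hef, (ih _ (qNondeg_pairPerp hQ he0 hf0 hef) hpd).2
        (fun h => hno (hasIso_succ_of_pairPerp he he0 hf0 hef h)), hpd]
      ring

end Groth.Agent.HypSmooth
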